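import Mathlib

/-!
# Class sizes divisible by four (helper647)

`Four K` : some element of odd prime power order has a class of size divisible by 4.
-/

set_option autoImplicit false

namespace Cfsg.Agent.H647

universe u v

/-- some element of odd prime power order has a conjugacy class of size divisible by `4` -/
def Four (K : Type*) [Group K] : Prop :=
  ∃ x : K, (∃ r k : ℕ, r.Prime ∧ r ≠ 2 ∧ orderOf x = r ^ k) ∧ 4 ∣ (Subgroup.centralizer ({x} : Set K)).index

theorem index_centralizer_equiv {K L : Type*} [Group K] [Group L] (e : K ≃* L) (x : K) :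
    (Subgroup.centralizer ({e x} : Set L)).index = (Subgroup.centralizer ({x} : Set K)).index := by
  have h : Subgroup.centralizer ({e x} : Set L) = (Subgroup.centralizer ({x} : Set K)).map e.toMonoidHom := by
    ext y
    constructor
    · intro hy
      refine ⟨e.symm y, ?_, by simp⟩
      rw [SetLike.mem_coe, Subgroup.mem_centralizer_singleton_iff] at *
      apply e.injective
      simpa using hy
    · rintro ⟨z, hz, rfl⟩
      rw [SetLike.mem_coe, Subgroup.mem_centralizer_singleton_iff] at hz
      rw [Subgroup.mem_centralizer_singleton_iff]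
      change e z * e x = e x * e z
      rw [← map_mul, hz, map_mul]
  rw [h]
  exact Subgroup.index_map_equiv _ e

theorem Four.of_equiv {K L : Type*} [Group K] [Group L] (e : K ≃* L) (h : Four L) : Four K := by
  obtain ⟨x, ⟨r, k, hr, hr2, hx⟩, h4⟩ := h
  refine ⟨e.symm x, ⟨r, k, hr, hr2, ?_⟩, ?_⟩
  · rw [← hx]
    exact orderOf_injective e.symm.toMonoidHom e.symm.injective x
  · rw [index_centralizer_equiv e.symm x]
    exact h4

/-- an element of odd prime order commuting with no involution, in a group of order divisible by `4` -/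
theorem four_of_no_inv {K : Type*} [Group K] [Finite K] (h4 : 4 ∣ Nat.card K) {x : K} {r k : ℕ} (hr : r.Prime)
    (hr2 : r ≠ 2) (hx : orderOf x = r ^ k) (h : ∀ t : K, orderOf t = 2 → t * x ≠ x * t) : Four K := by
  refine ⟨x, ⟨r, k, hr, hr2, hx⟩, ?_⟩
  have hodd : ¬ 2 ∣ Nat.card (Subgroup.centralizer ({x} : Set K)) := by
    intro hd
    obtain ⟨t, ht⟩ := exists_prime_orderOf_dvd_card' 2 hd
    refine h (t : K) (by rw [Subgroup.orderOf_coe, ht]) ?_
    have := t.2
    rwa [Subgroup.mem_centralizer_singleton_iff] at this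
  have hc : (Subgroup.centralizer ({x} : Set K)).index * Nat.card (Subgroup.centralizer ({x} : Set K)) = Nat.card K :=
    Subgroup.index_mul_card _
  rw [← hc] at h4
  have hcop : Nat.Coprime 4 (Nat.card (Subgroup.centralizer ({x} : Set K))) := by
    have : Nat.Coprime 2 (Nat.card (Subgroup.centralizer ({x} : Set K))) :=
      (Nat.Prime.coprime_iff_not_dvd Nat.prime_two).2 hodd
    exact (Nat.Coprime.pow_left 2 this : Nat.Coprime (2 ^ 2) _)
  exact hcop.dvd_of_dvd_mul_right h4

/-- a prime `r` dividing the order of `K` and of no centralizer of an involution -/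
theorem four_of_prime {K : Type*} [Group K] [Finite K] (h4 : 4 ∣ Nat.card K) {r : ℕ} (hr : r.Prime)
    (hr2 : r ≠ 2) (hrK : r ∣ Nat.card K)
    (h : ∀ t : K, orderOf t = 2 → ¬ r ∣ Nat.card (Subgroup.centralizer ({t} : Set K))) : Four K := by
  have : Fact r.Prime := ⟨hr⟩
  obtain ⟨x, hx⟩ := exists_prime_orderOf_dvd_card' r hrK
  refine four_of_no_inv h4 (k := 1) hr hr2 (by rw [hx, pow_one]) fun t ht htx => h t ht ?_
  have hmem : x ∈ Subgroup.centralizer ({t} : Set K) := by
    rw [Subgroup.mem_centralizer_singleton_iff]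
    exact htx.symm
  rw [← hx, ← Subgroup.orderOf_mk x hmem]
  exact orderOf_dvd_natCard _

/-- a bound for the `2`-part of the centralizer of an element of order `r` -/
theorem four_of_card {K : Type*} [Group K] [Finite K] {r m : ℕ} (hr : r.Prime)
    (hr2 : r ≠ 2) (hrK : r ∣ Nat.card K) (hm : 2 ^ (m + 2) ∣ Nat.card K)
    (h : ∀ x : K, orderOf x = r → ¬ 2 ^ (m + 1) ∣ Nat.card (Subgroup.centralizer ({x} : Set K))) : Four K := by
  have : Fact r.Prime := ⟨hr⟩
  obtain ⟨x, hx⟩ := exists_prime_orderOf_dvd_card' r hrK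
  refine ⟨x, ⟨r, 1, hr, hr2, by rw [hx, pow_one]⟩, ?_⟩
  have hc : (Subgroup.centralizer ({x} : Set K)).index * Nat.card (Subgroup.centralizer ({x} : Set K)) = Nat.card K :=
    Subgroup.index_mul_card _
  have hC0 : Nat.card (Subgroup.centralizer ({x} : Set K)) ≠ 0 := Nat.card_pos.ne'
  have hI0 : (Subgroup.centralizer ({x} : Set K)).index ≠ 0 := Subgroup.index_ne_zero_of_finite
  rw [← hc] at hm
  have h1 := (Nat.Prime.pow_dvd_iff_le_factorization Nat.prime_two (mul_ne_zero hI0 hC0)).1 hm
  rw [Nat.factorization_mul hI0 hC0, Finsupp.add_apply] at h1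
  have h2 : ¬ m + 1 ≤ (Nat.card (Subgroup.centralizer ({x} : Set K))).factorization 2 := fun hle =>
    h x hx ((Nat.Prime.pow_dvd_iff_le_factorization Nat.prime_two hC0).2 hle)
  have h3 : 2 ≤ ((Subgroup.centralizer ({x} : Set K)).index).factorization 2 := by omega
  exact (Nat.Prime.pow_dvd_iff_le_factorization Nat.prime_two hI0).2 h3

end Cfsg.Agent.H647
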