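import Cfsg.Agent.H647.Four
import Cfsg.Agent.QTKE.Base
import Cfsg.Agent.Lib.NormalAbelian
import Cfsg.Agent.Omega.Quasithin.Row.EvenOf

/-!
# Groups of even characteristic have class sizes divisible by four (helper647)

`four_of_even` : if `G` is of even characteristic, every element of odd prime order has a class of size divisible
by 4 (if 4 divides the order of `G`).
-/

set_option autoImplicit false

namespace Cfsg.Agent.H647

open Cfsg Subgroup

variable {G : Type*} [Group G]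

/-- a subgroup `M` of index at most two in a `2`-subgroup `Q`, centralised by the element `x` of odd order which
normalises `Q` -/
theorem comm_of_index_le_two {Q M : Subgroup G} (hMQ : M ≤ Q) (hQ : IsPGroup 2 Q)
    (hidx : ∀ a ∈ Q, ∀ b ∈ Q, a ∉ M → b ∉ M → a⁻¹ * b ∈ M) {x : G} (hx : Odd (orderOf x))
    (hxM : ∀ m ∈ M, x * m = m * x) (hxQ : ∀ q ∈ Q, x * q * x⁻¹ ∈ Q) (q : G) (hq : q ∈ Q) : x * q = q * x := by
  by_cases hqM : q ∈ M
  · exact hxM q hqM
  have h1 : x * q * x⁻¹ ∉ M := by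
    intro h
    apply hqM
    have h2 := hxM _ h
    have h3 : x * q * x⁻¹ = q := by
      have h4 : x⁻¹ * (x * (x * q * x⁻¹)) * x = x⁻¹ * ((x * q * x⁻¹) * x) * x := by rw [h2]
      have h5 : x⁻¹ * (x * (x * q * x⁻¹)) * x = x * q := by group
      have h6 : x⁻¹ * ((x * q * x⁻¹) * x) * x = q * x := by group
      rw [h5, h6] at h4
      rw [h4]; group
    rwa [h3] at h
  set m := q⁻¹ * (x * q * x⁻¹) with hm
  have hmM : m ∈ M := hidx q hq _ (hxQ q hq) hqM h1
  have hqm : x * q * x⁻¹ = q * m := by rw [hm]; group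
  have key : ∀ k : ℕ, x ^ k * q * (x ^ k)⁻¹ = q * m ^ k := by
    intro k
    induction k with
    | zero => simp
    | succ k ih =>
      have hc : x * m ^ k = m ^ k * x := by
        have := hxM (m ^ k) (pow_mem hmM k)
        exact this
      calc x ^ (k + 1) * q * (x ^ (k + 1))⁻¹ = x * (x ^ k * q * (x ^ k)⁻¹) * x⁻¹ := by rw [pow_succ']; group
        _ = (x * q * x⁻¹) * (x * m ^ k * x⁻¹) := by rw [ih]; group
        _ = (q * m) * m ^ k := by rw [hqm, hc]; group
        _ = q * m ^ (k + 1) := by rw [pow_succ', mul_assoc]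
  have h2 := key (orderOf x)
  rw [pow_orderOf_eq_one, inv_one, mul_one, one_mul] at h2
  have h3 : m ^ orderOf x = 1 := by
    have : q * m ^ orderOf x = q * 1 := by rw [← h2, mul_one]
    exact mul_left_cancel this
  have h4 : m = 1 := by
    obtain ⟨k, hk⟩ := hQ ⟨m, hMQ hmM⟩
    have hk' : m ^ 2 ^ k = 1 := by
      have := congrArg Subtype.val hk
      simpa using this
    have h5 : orderOf m ∣ 2 ^ k := orderOf_dvd_of_pow_eq_one hk'
    have h6 : orderOf m ∣ orderOf x := orderOf_dvd_of_pow_eq_one h3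
    have h7 : Nat.Coprime (2 ^ k) (orderOf x) := ((Nat.coprime_two_left.2 hx).pow_left k)
    have h8 : orderOf m ∣ 1 := by
      have := Nat.dvd_gcd h5 h6
      rwa [h7] at this
    exact orderOf_eq_one_iff.1 (Nat.dvd_one.1 h8)
  rw [h4, mul_one] at hqm
  calc x * q = (x * q * x⁻¹) * x := by group
    _ = q * x := by rw [hqm]

/-- a nontrivial subgroup `M` of index at most two in the `2`-group `P` contains a central involution of `P` -/
theorem exists_central {P M : Subgroup G} [Finite G] (hP : IsPGroup 2 P) (hMP : M ≤ P) (hM : M ≠ ⊥)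
    (hn : ∀ a ∈ P, ∀ m ∈ M, a * m * a⁻¹ ∈ M) : ∃ z ∈ M, orderOf z = 2 ∧ ∀ a ∈ P, a * z = z * a := by
  have hfact : Fact (Nat.Prime 2) := ⟨Nat.prime_two⟩
  have hnil : Group.IsNilpotent P := hP.isNilpotent
  let N : Subgroup P := M.subgroupOf P
  have hN : N.Normal := ⟨fun m hm g => by
    rw [mem_subgroupOf] at hm ⊢
    exact hn g g.2 m hm⟩
  have hN1 : N ≠ ⊥ := by
    intro h
    apply hM
    rw [subgroupOf_eq_bot, disjoint_iff] at h
    rwa [inf_eq_left.2 hMP] at h
  have h1 := Cfsg.Agent.Lib.NormalAbelian.normal_inf_center_ne_bot N hN1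
  have h2 : IsPGroup 2 ↥(N ⊓ center P) := hP.to_subgroup _
  have h3 : Nontrivial ↥(N ⊓ center P) := (nontrivial_iff_ne_bot _).2 h1
  have h4 : 2 ∣ Nat.card ↥(N ⊓ center P) := by
    obtain ⟨n, hn⟩ := IsPGroup.iff_card.1 h2
    have h5 : 1 < Nat.card ↥(N ⊓ center P) := Finite.one_lt_card
    rw [hn] at h5 ⊢
    cases n with
    | zero => simp at h5
    | succ n => exact Dvd.intro_left _ rfl
  obtain ⟨z, hz⟩ := exists_prime_orderOf_dvd_card' 2 h4
  have hzN : (z : P) ∈ N := z.2.1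
  have hzc : (z : P) ∈ center P := z.2.2
  refine ⟨((z : P) : G), mem_subgroupOf.1 hzN, ?_, fun a ha => ?_⟩
  · rw [orderOf_coe, orderOf_coe, hz]
  · have := mem_center_iff.1 hzc ⟨a, ha⟩
    exact congrArg Subtype.val this

/-- if the class of `x` has size not divisible by four, `x` centralises a subgroup of index at most two in a Sylow
`2`-subgroup -/
theorem exists_half [Finite G] {x : G} (h4 : ¬ 4 ∣ (centralizer ({x} : Set G)).index) :
    ∃ (P : Sylow 2 G) (M : Subgroup G), M ≤ P ∧ (∀ m ∈ M, x * m = m * x) ∧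
      (∀ a ∈ P, ∀ b ∈ P, a ∉ M → b ∉ M → a⁻¹ * b ∈ M) ∧ (∀ a ∈ P, ∀ m ∈ M, a * m * a⁻¹ ∈ M) ∧
      Nat.card P ≤ 2 * Nat.card M := by
  have hfact : Fact (Nat.Prime 2) := ⟨Nat.prime_two⟩
  set C := centralizer ({x} : Set G) with hC
  obtain ⟨M0⟩ : Nonempty (Sylow 2 C) := inferInstance
  set M : Subgroup G := (M0 : Subgroup C).map C.subtype with hM
  have hM2 : IsPGroup 2 M := M0.isPGroup'.map _
  obtain ⟨P, hMP⟩ := hM2.exists_le_sylow
  have hcM : Nat.card M = 2 ^ (Nat.card C).factorization 2 := by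
    rw [hM, card_map_of_injective C.subtype_injective]
    exact M0.card_eq_multiplicity
  have hcP : Nat.card P = 2 ^ (Nat.card G).factorization 2 := P.card_eq_multiplicity
  have hidx : C.index * Nat.card C = Nat.card G := index_mul_card _
  have hC0 : Nat.card C ≠ 0 := Nat.card_pos.ne'
  have hI0 : C.index ≠ 0 := index_ne_zero_of_finite
  have hf : (Nat.card G).factorization 2 = C.index.factorization 2 + (Nat.card C).factorization 2 := by
    rw [← hidx, Nat.factorization_mul hI0 hC0, Finsupp.add_apply]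
  have hI : C.index.factorization 2 ≤ 1 := by
    by_contra hcon
    exact h4 ((Nat.Prime.pow_dvd_iff_le_factorization Nat.prime_two hI0).2 (by omega : 2 ≤ _))
  have hcard : Nat.card P ≤ 2 * Nat.card M := by
    rw [hcP, hcM, hf, pow_add]
    refine Nat.mul_le_mul_right _ ?_
    calc 2 ^ C.index.factorization 2 ≤ 2 ^ 1 := Nat.pow_le_pow_right (by norm_num) hI
      _ = 2 := pow_one 2
  -- the index of `M` in `P`
  have hidx2 : (M.subgroupOf P).index ≤ 2 := by
    have h1 : (M.subgroupOf P).index * Nat.card (M.subgroupOf P) = Nat.card P := index_mul_card _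
    have h2 : Nat.card (M.subgroupOf P) = Nat.card M := Nat.card_congr (subgroupOfEquivOfLe hMP).toEquiv
    rw [h2] at h1
    have h3 : 0 < Nat.card M := Nat.card_pos
    rw [← h1] at hcard
    exact Nat.le_of_mul_le_mul_right hcard h3
  have hpos : 0 < (M.subgroupOf P).index := Nat.pos_of_ne_zero index_ne_zero_of_finite
  have hcases : (M.subgroupOf P).index = 1 ∨ (M.subgroupOf P).index = 2 := by omega
  refine ⟨P, M, hMP, ?_, ?_, ?_, hcard⟩
  · rintro _ ⟨m, -, rfl⟩
    have := mem_centralizer_singleton_iff.1 m.2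
    exact this.symm
  · intro a ha b hb haM hbM
    rcases hcases with h | h
    · rw [index_eq_one] at h
      exact absurd (mem_subgroupOf.1 (h.symm ▸ mem_top (⟨a, ha⟩ : P))) haM
    · have h1 := (mul_mem_iff_of_index_two h (a := (⟨a, ha⟩ : P)⁻¹) (b := (⟨b, hb⟩ : P))).2 (by
        rw [inv_mem_iff, mem_subgroupOf, mem_subgroupOf]
        exact iff_of_false haM hbM)
      exact mem_subgroupOf.1 h1
  · intro a ha m hm
    have hn : (M.subgroupOf P).Normal := by
      rcases hcases with h | h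
      · rw [index_eq_one] at h
        rw [h]; infer_instance
      · exact normal_of_index_eq_two h
    have := hn.conj_mem (⟨m, hMP hm⟩ : P) (mem_subgroupOf.2 hm) ⟨a, ha⟩
    exact mem_subgroupOf.1 this

/-- **Groups of even characteristic.** -/
theorem four_dvd_of_even [Finite G] (hE : IsOfEvenCharacteristic G) (h4 : 4 ∣ Nat.card G) {x : G}
    (hx : Odd (orderOf x)) (hx1 : x ≠ 1) : 4 ∣ (centralizer ({x} : Set G)).index := by
  by_contra hcon
  have hfact : Fact (Nat.Prime 2) := ⟨Nat.prime_two⟩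
  obtain ⟨P, M, hMP, hxM, hidx, hn, hcard⟩ := exists_half hcon
  have hP4 : 4 ≤ Nat.card P := by
    have h1 : 2 ^ 2 ∣ Nat.card P := P.pow_dvd_card_of_pow_dvd_card h4
    exact Nat.le_of_dvd Nat.card_pos h1
  have hM1 : M ≠ ⊥ := by
    rintro rfl
    rw [card_bot] at hcard
    omega
  obtain ⟨z, hzM, hz2, hzP⟩ := exists_central P.isPGroup' hMP hM1 hn
  have hz : IsTwoCentralInvolution z := ⟨hz2, P, hMP hzM, hzP⟩
  have hC := QTKE.charTwo_of_even hE hz
  set C := centralizer ({z} : Set G) with hCdef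
  set Q : Subgroup G := (pCore 2 ↥C).map C.subtype with hQ
  have hPC : (P : Subgroup G) ≤ C := fun a ha => mem_centralizer_singleton_iff.2 (hzP a ha)
  have hxC : x ∈ C := mem_centralizer_singleton_iff.2 (hxM z hzM)
  have hQ2 : IsPGroup 2 Q := (Lib.Cores.pCore_isPGroup 2).map _
  have hQn : ∀ c ∈ C, ∀ q ∈ Q, c * q * c⁻¹ ∈ Q := by
    rintro c hc _ ⟨y, hy, rfl⟩
    have hn : (pCore 2 ↥C).Normal := inferInstance
    exact ⟨_, hn.conj_mem y hy ⟨c, hc⟩, rfl⟩
  have hQP : Q ≤ P := Omega.Quasithin.EvenOf.le_sylow_of_normalizes P hQ2 fun s hs => hQn s (hPC hs)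
  have hxQ : ∀ q ∈ Q, x * q = q * x := by
    intro q hq
    refine comm_of_index_le_two (Q := Q) (M := M ⊓ Q) inf_le_right hQ2 ?_ hx (fun m hm => hxM m hm.1)
      (fun q hq => hQn x hxC q hq) q hq
    intro a ha b hb haM hbM
    have ha' : a ∉ M := fun h => haM ⟨h, ha⟩
    have hb' : b ∉ M := fun h => hbM ⟨h, hb⟩
    exact ⟨hidx a (hQP ha) b (hQP hb) ha' hb', Q.mul_mem (Q.inv_mem ha) hb⟩
  have h5 : (⟨x, hxC⟩ : C) ∈ pCore 2 ↥C := by
    apply hC
    rw [mem_centralizer_iff]
    intro y hy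
    apply Subtype.ext
    exact (hxQ y ⟨y, hy, rfl⟩).symm
  obtain ⟨k, hk⟩ := Lib.Cores.pCore_isPGroup 2 (⟨⟨x, hxC⟩, h5⟩ : pCore 2 ↥C)
  have hk' : x ^ 2 ^ k = 1 := by
    have := congrArg (fun y : pCore 2 ↥C => ((y : C) : G)) hk
    simpa using this
  apply hx1
  have h6 : orderOf x ∣ 2 ^ k := orderOf_dvd_of_pow_eq_one hk'
  have h7 : Nat.Coprime (2 ^ k) (orderOf x) := (Nat.coprime_two_left.2 hx).pow_left k
  have h8 : orderOf x ∣ 1 := by
    have := Nat.dvd_gcd h6 dvd_rfl
    rwa [h7] at this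
  exact orderOf_eq_one_iff.1 (Nat.dvd_one.1 h8)

theorem four_of_even [Finite G] (hE : IsOfEvenCharacteristic G) (h4 : 4 ∣ Nat.card G) {r : ℕ} (hr : r.Prime)
    (hr2 : r ≠ 2) (hrG : r ∣ Nat.card G) : Four G := by
  have : Fact r.Prime := ⟨hr⟩
  obtain ⟨x, hx⟩ := exists_prime_orderOf_dvd_card' r hrG
  refine ⟨x, ⟨r, 1, hr, hr2, by rw [hx, pow_one]⟩, four_dvd_of_even hE h4 (by rw [hx]; exact hr.odd_of_ne_two hr2) ?_⟩
  rintro rfl
  rw [orderOf_one] at hx
  exact hr.one_lt.ne hx

end Cfsg.Agent.H647
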