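import Cfsg.Agent.H647.Four
import Cfsg.Agent.SmallSimple.EvenOrder
import Cfsg.Agent.H463.LieOdd
import Cfsg.Agent.S0205

/-!
# Non-abelian simple groups: even order, an odd prime divisor, `Four` for Lie type in odd characteristic (helper647)
-/

set_option autoImplicit false

namespace Cfsg.Agent.H647

open Subgroup Cfsg

universe u

theorem comm_of_isSolvable {S : Type u} [Group S] [IsSimpleGroup S] (h : Group.IsSolvable S) : IsMulCommutative S := by
  have := (IsSimpleGroup.comm_iff_isSolvable (G := S)).2 h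
  exact ⟨⟨this⟩⟩

theorem two_dvd_of_simple {S : Type u} [Group S] [Finite S] [IsSimpleGroup S] (hna : ¬ IsMulCommutative S) :
    2 ∣ Nat.card S := by
  by_contra h
  have hodd : Odd (Nat.card S) := by
    rw [← Nat.not_even_iff_odd, even_iff_two_dvd]; exact h
  exact hna (comm_of_isSolvable (S0205.result hodd))

theorem four_dvd_of_simple {S : Type u} [Group S] [Finite S] [IsSimpleGroup S] (hna : ¬ IsMulCommutative S) :
    4 ∣ Nat.card S := SmallSimple.EvenOrder.four_dvd_card hna (two_dvd_of_simple hna)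

theorem exists_odd_prime {S : Type u} [Group S] [Finite S] [IsSimpleGroup S] (hna : ¬ IsMulCommutative S) :
    ∃ r : ℕ, r.Prime ∧ r ≠ 2 ∧ r ∣ Nat.card S := by
  by_contra hcon
  push Not at hcon
  have : Fact (Nat.Prime 2) := ⟨Nat.prime_two⟩
  have h2 : ∃ k, Nat.card S = 2 ^ k := by
    refine ⟨(Nat.card S).primeFactorsList.length, ?_⟩
    apply Nat.eq_prime_pow_of_unique_prime_dvd Nat.card_pos.ne'
    intro d hd hdS
    by_contra hne
    exact hcon d hd hne hdS
  have hp : IsPGroup 2 S := IsPGroup.iff_card.2 h2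
  have hn := hp.isNilpotent
  exact hna (comm_of_isSolvable inferInstance)

/-- groups of Lie type in odd characteristic: a regular unipotent element has an odd centralizer -/
theorem four_lieOdd {S : Type u} [Group S] [Finite S] [IsSimpleGroup S] (hna : ¬ IsMulCommutative S) {p : ℕ}
    (hp : p.Prime) (hp2 : p ≠ 2) (h : IsLieTypeChar p S) : Four S := by
  obtain ⟨z, -, ⟨k, hk⟩, hz⟩ := H463.LieOdd.exists_regular_isPGroup hp hp2 inferInstance h
  refine four_of_no_inv (four_dvd_of_simple hna) hp hp2 hk fun t ht htz => ?_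
  obtain ⟨m, hm⟩ := hz ⟨t, mem_centralizer_singleton_iff.2 htz⟩
  have hm' : t ^ p ^ m = 1 := congrArg Subtype.val hm
  have h1 := orderOf_dvd_of_pow_eq_one hm'
  rw [ht] at h1
  have h2 := Nat.prime_two.dvd_of_dvd_pow h1
  exact hp2 ((Nat.prime_dvd_prime_iff_eq Nat.prime_two hp).1 h2).symm

end Cfsg.Agent.H647
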